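import Groth.Agent.Lib.CurveCoh17.Euler
import Groth.Agent.Lib.CohFound.Qcqs
import Groth.Agent.Lib.CohFound.ProperFinite
import Mathlib.Algebra.BigOperators.Intervals

/-!
# Additivity of Euler characteristics, without a bound on the dimension
-/

set_option autoImplicit false
set_option linter.style.haveILetI false
set_option backward.isDefEq.respectTransparency false

universe u

open CategoryTheory TopologicalSpace Opposite CategoryTheory.Limits AlgebraicGeometry

namespace Groth.Agent.EulerAdd18

open Groth.Agent.CohFound Groth.Agent.CurveCoh17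

variable (k : Type u) [Field k] {X : Scheme.{u}} [X.Over (Spec (CommRingCat.of k))]

/-- All cohomology finite-dimensional, zero in degrees `≥ N`. -/
structure Bdd (N : ℕ) (M : X.Modules) : Prop where
  fin : ∀ n, Module.Finite k (Coh.HH X M n)
  vanish : ∀ n, N ≤ n → Subsingleton (Coh.HH X M n)

variable {k}

theorem Bdd.euler_eq {N : ℕ} {M : X.Modules} (h : Bdd k N M) :
    Curv2.euler k X M = ∑ n ∈ Finset.range N, (-1 : ℤ) ^ n * (Module.finrank k (Coh.HH X M n) : ℤ) := by
  rw [Curv2.euler, finsum_eq_finsetSum_of_support_subset]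
  intro i hi
  simp only [Finset.coe_range, Set.mem_Iio]
  by_contra hlt
  haveI := h.vanish i (not_lt.1 hlt)
  exact hi (by simp [Module.finrank_zero_of_subsingleton])

/-- Additivity of the Euler characteristic. -/
theorem euler_add {S : ShortComplex X.Modules} (hS : S.ShortExact) {N : ℕ}
    (h₁ : Bdd k (N + 1) S.X₁) (h₂ : Bdd k (N + 1) S.X₂) (h₃ : Bdd k (N + 1) S.X₃) :
    Curv2.euler k X S.X₂ = Curv2.euler k X S.X₁ + Curv2.euler k X S.X₃ := by
  let a := fun n => (Module.finrank k (Coh.HH X S.X₁ n) : ℤ)
  let b := fun n => (Module.finrank k (Coh.HH X S.X₂ n) : ℤ)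
  let c := fun n => (Module.finrank k (Coh.HH X S.X₃ n) : ℤ)
  let r := fun n => (Module.finrank k (LinearMap.range (hdelta k hS n)) : ℤ)
  let p := fun n => (Module.finrank k (LinearMap.range (hmap k S.f n)) : ℤ)
  let q := fun n => (Module.finrank k (LinearMap.range (hmap k S.g n)) : ℤ)
  have hb : ∀ n, b n = p n + q n := fun n => by
    haveI := h₂.fin n
    simp only [b, p, q]
    exact_mod_cast finrank_eq_range_add_range _ _ (exact_hmap_hmap k hS n)
  have hc : ∀ n, c n = q n + r n := fun n => by
    haveI := h₃.fin n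
    simp only [c, q, r]
    exact_mod_cast finrank_eq_range_add_range _ _ (exact_hmap_hdelta k hS n)
  have ha : ∀ n, a (n + 1) = r n + p (n + 1) := fun n => by
    haveI := h₁.fin (n + 1)
    simp only [a, r, p]
    exact_mod_cast finrank_eq_range_add_range _ _ (exact_hdelta_hmap k hS n)
  have ha0 : a 0 = p 0 := by
    haveI := h₁.fin 0
    simp only [a, p]
    exact_mod_cast (LinearMap.finrank_range_of_inj (hmap_f_injective k hS)).symm
  have key : ∀ m, ∑ n ∈ Finset.range (m + 1), (-1 : ℤ) ^ n * (b n - a n - c n) = (-1 : ℤ) ^ (m + 1) * r m := by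
    intro m
    induction m with
    | zero =>
      simp only [zero_add, Finset.range_one, Finset.sum_singleton, pow_zero, one_mul, pow_one]
      linear_combination hb 0 - ha0 - hc 0
    | succ m ih =>
      rw [Finset.sum_range_succ, ih]
      linear_combination (-1 : ℤ) ^ (m + 1) * hb (m + 1) - (-1 : ℤ) ^ (m + 1) * ha m - (-1 : ℤ) ^ (m + 1) * hc (m + 1)
  have hr : r N = 0 := by
    haveI := h₁.vanish (N + 1) le_rfl
    simp only [r]
    exact_mod_cast Module.finrank_zero_of_subsingleton
  have hk := key N
  rw [hr, mul_zero] at hk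
  rw [h₁.euler_eq, h₂.euler_eq, h₃.euler_eq, ← sub_eq_zero, ← Finset.sum_add_distrib, ← Finset.sum_sub_distrib]
  refine Eq.trans (Finset.sum_congr rfl fun n _ => ?_) hk
  simp only [a, b, c]
  ring

variable (k X)

/-- On a proper scheme over a field coherent modules have bounded finite-dimensional cohomology, uniformly. -/
theorem exists_bdd [IsProper (X ↘ Spec (CommRingCat.of k))] :
    ∃ N, ∀ (M : X.Modules), Coh.IsCoh M → Bdd k (N + 1) M := by
  haveI : IsNoetherian X := CohFound.isNoetherian_of_isProper (X ↘ (Spec (CommRingCat.of k)))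
  obtain ⟨d, hd⟩ := exists_vanishing_bound_compact (X := X) (U := ⊤) isCompact_univ
  refine ⟨d, fun M hM => ⟨fun n => finite_HH_of_isProper M hM n, fun n hn => ?_⟩⟩
  haveI := hd M hM.1 n (by omega)
  exact (hhExt M n).toEquiv.subsingleton

end Groth.Agent.EulerAdd18
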